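import Groth.Agent.L05.Point.FibreGlobal
import Groth.Agent.L16.Rees.ClosedFibre
import Groth.Agent.L16.Rees.FibreMonoEpi
import Groth.Agent.S10861

/-!
A morphism of proper schemes over a local base, flat at the source, which is an isomorphism on the
closed fibre is an isomorphism.
-/

set_option autoImplicit false
set_option linter.style.haveILetI false
set_option backward.isDefEq.respectTransparency.types false
set_option backward.isDefEq.respectTransparency false

universe u

open CategoryTheory CategoryTheory.Limits AlgebraicGeometry TopologicalSpace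

namespace Groth.L07.ProjRecog

open Groth.L05.Point (Nhd)

theorem isIso_of_fiberMapOver {X Y S : Scheme.{u}} (r : X ⟶ Y) (g : Y ⟶ S) (f : X ⟶ S) (w : r ≫ g = f)
    [IsProper f] [Flat f] [LocallyOfFinitePresentation f] [IsProper g] [LocallyOfFinitePresentation g]
    (y : S) (hp : ∀ q : S, q ⤳ y) (hy : IsIso (CohIII.fiberMapOver r f g w y)) : IsIso r := by
  haveI : IsProper r := by
    haveI : IsProper (r ≫ g) := w ▸ inferInstance
    exact IsProper.of_comp r g
  haveI := hy
  obtain ⟨U, hyU, hU⟩ := (Groth.Agent.S10861.result r f g w y).2 (inferInstanceAs (IsClosedImmersion (CohIII.fiberMapOver r f g w y)))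
  have hUtop : U = ⊤ := top_le_iff.1 fun q _ => (hp q).mem_open U.2 hyU
  subst hUtop
  haveI : IsClosedImmersion r :=
    IsZariskiLocalAtTarget.of_iSup_eq_top (P := @IsClosedImmersion) (fun _ : PUnit.{u + 1} => g ⁻¹ᵁ (⊤ : S.Opens))
      (top_le_iff.1 fun x _ => Opens.mem_iSup.2 ⟨PUnit.unit, trivial⟩) fun _ => hU
  -- étale near the closed fibre, hence everywhere
  have hx : ∀ x : X, f x = y → Nhd @Etale r x := fun x hx => by
    subst hx
    exact (Groth.L05.Point.nhd_etale_iff_fiberMapOver r g f w x ((Flat.iff_flat_stalkMap _).mp ‹_› x) (f.asFiber x)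
      (f.fiberι_asFiber x)).mpr (Groth.L05.Point.nhd_top (inferInstanceAs (Etale (CohIII.fiberMapOver r f g w (f x)))) _)
  have hcl : ∀ Z : Set X, IsClosed Z → (∀ x, f x = y → x ∉ Z) → Z = ∅ := fun Z hZ h => by
    by_contra hne
    obtain ⟨x, hx⟩ := Set.nonempty_iff_ne_empty.2 hne
    obtain ⟨x', hx', hfx⟩ := (hp (f x)).mem_closed (f.isClosedMap _ hZ) ⟨x, hx, rfl⟩
    exact h x' hfx hx'
  let G : X.Opens := ⨆ (U : X.Opens) (_ : Etale (U.ι ≫ r)), U
  have hG : ∀ x : X, x ∈ G := by
    have := hcl (G : Set X)ᶜ G.2.isClosed_compl fun x hfx hn => hn (by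
      obtain ⟨U, hxU, hU⟩ := hx x hfx
      exact Opens.mem_iSup.2 ⟨U, Opens.mem_iSup.2 ⟨hU, hxU⟩⟩)
    exact fun x => by simpa using Set.eq_empty_iff_forall_notMem.1 this x
  haveI : Etale r := Groth.L05.Point.of_forall_nhd fun x => by
    obtain ⟨U, hU'⟩ := Opens.mem_iSup.1 (hG x)
    obtain ⟨hU, hxU⟩ := Opens.mem_iSup.1 hU'
    exact ⟨U, hxU, hU⟩
  haveI : IsOpenImmersion r := IsOpenImmersion.of_flat_of_mono r
  refine isIso_of_isOpenImmersion_of_opensRange_eq_top r (eq_top_iff.mpr fun p _ => ?_)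
  by_contra hn
  obtain ⟨p', hp', hgp⟩ := (hp (g p)).mem_closed (g.isClosedMap _ r.opensRange.2.isClosed_compl) ⟨p, hn, rfl⟩
  subst hgp
  obtain ⟨z, hz⟩ := (asIso (CohIII.fiberMapOver r f g w (g p'))).hom.homeomorph.surjective (g.asFiber p')
  refine hp' ⟨f.fiberι (g p') z, ?_⟩
  rw [← Scheme.Hom.comp_apply, (Groth.L05.Point.isPullback_fiberMapOver r g f w (g p')).w, Scheme.Hom.comp_apply,
    show CohIII.fiberMapOver r f g w (g p') z = g.asFiber p' from hz]
  exact g.fiberι_asFiber p'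

/-- The same, given a cartesian square over a morphism onto the closed point. -/
theorem isIso_of_closedFibre {A : Type u} [CommRing A] [IsLocalRing A] [IsNoetherianRing A] {X Y : Scheme.{u}}
    (r : X ⟶ Y) (g : Y ⟶ Spec (CommRingCat.of A)) (f : X ⟶ Spec (CommRingCat.of A)) (w : r ≫ g = f)
    [IsProper f] [Flat f] [IsProper g] {X₀ Y₀ : Scheme.{u}} (i : X₀ ⟶ X) (r₀ : X₀ ⟶ Y₀) (j : Y₀ ⟶ Y)
    (q : Y₀ ⟶ Spec (CommRingCat.of (IsLocalRing.ResidueField A)))
    (hY : IsPullback j q g (Spec.map (CommRingCat.ofHom (IsLocalRing.residue A))))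
    (hr : IsPullback i r₀ r j) [IsIso r₀] : IsIso r := by
  obtain ⟨y, φ, hp, hφ, hφι⟩ := Groth.L16.Rees.ClosedFibre.exists_iso_fiber A g
  haveI := hφ
  refine isIso_of_fiberMapOver r g f w y hp ?_
  let ψ : Y₀ ⟶ g.fiber y := hY.isoPullback.hom ≫ φ
  have hψ : ψ ≫ g.fiberι y = j := by
    simp only [ψ, Category.assoc, hφι, IsPullback.isoPullback_hom_fst]
  have hP := Groth.L05.Point.isPullback_fiberMapOver r g f w y
  let t : X₀ ⟶ f.fiber y := hP.lift i (r₀ ≫ ψ) (by rw [Category.assoc, hψ]; exact hr.w)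
  have ht : IsPullback t r₀ (CohIII.fiberMapOver r f g w y) ψ := by
    refine IsPullback.of_right ?_ (hP.lift_snd ..) hP
    rw [show t ≫ f.fiberι y = i from hP.lift_fst .., hψ]
    exact hr
  haveI : IsIso t := ht.isIso_fst_of_isIso
  have hw : CohIII.fiberMapOver r f g w y = inv t ≫ r₀ ≫ ψ := by
    rw [← ht.w, IsIso.inv_hom_id_assoc]
  rw [hw]
  infer_instance

end Groth.L07.ProjRecog
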