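import Groth.Agent.L16.Rees.HomNearFibre
import Groth.Agent.L16.Rees.ClosedFibre
import Groth.Agent.L12.CurveFam.FibVA.Main
import Groth.Agent.L03.BlowAcyc.Twists
import Groth.Agent.L21.RR.VeryAmpleField
import Groth.Agent.L24.SB.Point

/-!
Sections over a complete local base lifting those of the closed fibre.
-/

set_option autoImplicit false
set_option linter.style.haveILetI false
set_option backward.isDefEq.respectTransparency false

universe u

open CategoryTheory CategoryTheory.Limits AlgebraicGeometry TopologicalSpace Opposite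

noncomputable section

namespace Groth.L07.ProjRecog

open Groth.L18.Frame (IsFrame rs ro pull rs_rs ro_ro rs_smul rs_self ro_self pull_smul pull_rs)

variable (A : Type u) [CommRing A] [IsLocalRing A] [IsNoetherianRing A] {X : Scheme.{u}}
  (f : X ⟶ Spec (CommRingCat.of A)) [IsProper f] [Flat f]

theorem congr_app_pull {X Y : Scheme.{u}} {g h : X ⟶ Y} (e : g = h) (L : Y.Modules) (s : Γ(L, ⊤)) :
    ((Scheme.Modules.pullbackCongr e).hom.app L).app ⊤ (ProjUP.pullSec g L s) = ProjUP.pullSec h L s := by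
  subst e
  simp [Scheme.Modules.pullbackCongr]

theorem surjective_pullSec_of_iso {Z F Y : Scheme.{u}} (φ : Z ⟶ F) [IsIso φ] (ι : F ⟶ Y) (j : Z ⟶ Y) (h : φ ≫ ι = j)
    (L : Y.Modules) (hι : Function.Surjective fun s : Γ(L, ⊤) => ProjUP.pullSec ι L s) :
    Function.Surjective fun s : Γ(L, ⊤) => ProjUP.pullSec j L s := fun t => by
  let θ := (Scheme.Modules.pullbackComp φ ι).app L ≪≫ (Scheme.Modules.pullbackCongr h).app L
  obtain ⟨σ, hσ⟩ := (Groth.L24.SB.bijective_pullSec_of_isIso φ _).2 (θ.inv.app ⊤ t)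
  obtain ⟨s, hs⟩ := hι σ
  refine ⟨s, ?_⟩
  have h2 : θ.hom.app ⊤ (ProjUP.pullSec φ _ (ProjUP.pullSec ι L s)) = ProjUP.pullSec j L s := by
    show ((Scheme.Modules.pullbackCongr h).hom.app L).app ⊤ (((Scheme.Modules.pullbackComp φ ι).hom.app L).app ⊤
      (ProjUP.pullSec φ _ (ProjUP.pullSec ι L s))) = _
    rw [Groth.L21.RR.pullSec_comp φ ι L s]
    exact congr_app_pull h L s
  show ProjUP.pullSec j L s = t
  rw [← h2, show ProjUP.pullSec ι L s = σ from hs, show ProjUP.pullSec φ _ σ = θ.inv.app ⊤ t from hσ]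
  exact congr($(congrArg (fun k => Scheme.Modules.Hom.app k ⊤) θ.inv_hom_id) t)

theorem subsingleton_HH_transport {Z F Y : Scheme.{u}} (φ : Z ⟶ F) [IsIso φ] (ι : F ⟶ Y) (j : Z ⟶ Y) (h : φ ≫ ι = j)
    (L : Y.Modules) (n : ℕ) (h1 : Subsingleton (Coh.HH Z ((Scheme.Modules.pullback j).obj L) n)) :
    Subsingleton (Coh.HH F ((Scheme.Modules.pullback ι).obj L) n) := by
  let θ := (Scheme.Modules.pullbackComp φ ι).app L ≪≫ (Scheme.Modules.pullbackCongr h).app L
  obtain ⟨e⟩ := Groth.L03.BlowAcyc.nonempty_HH_pullback_iso φ ((Scheme.Modules.pullback ι).obj L) n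
  exact (e.symm.trans (Groth.L17.BC.HHequiv θ n).toAddEquiv).toEquiv.subsingleton

omit [IsLocalRing A] [IsNoetherianRing A] in
theorem surjective_pullSec_fiber [LocallyOfFinitePresentation f] (y : Spec (CommRingCat.of A))
    (hp : ∀ q, q ⤳ y) (L : X.Modules) (hL : PicF.IsInvertible L) (hH : Subsingleton (CohIII.fiberH f L y 1)) :
    Function.Surjective fun s : Γ(L, ⊤) => ProjUP.pullSec (f.fiberι y) L s := fun σ => by
  haveI : Coh.IsQCoh L := Groth.L21.Extend.isQCoh_of_isInvertible hL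
  have hlf := Groth.L16.Existence.isFinLocFree_of_isInvertible hL
  have hfl := Groth.L29.DC.RelTor.isFlatOver_of_isFlat f (Groth.L29.DC.isFlat_of_isFinLocFree hlf)
  let M := CohIII.fiberMod f L y
  obtain ⟨s, r, hr, -, he⟩ := Groth.L16.Rees.NearFibre.exists_lift_scalar f L
    (Groth.L18.LFP.isFP_of_isFinLocFree _ hlf) hfl y hH (isAffineOpen_top _) trivial σ (fun z _ => trivial)
  have hru := Groth.L16.Rees.HomNearFibre.isUnit_of_eval hp trivial hr
  refine ⟨f.app ⊤ (hru.unit⁻¹ : Γ(Spec (CommRingCat.of A), ⊤)ˣ) • s, ?_⟩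
  show pull (f.fiberι y) L (f ⁻¹ᵁ ⊤) (f.app ⊤ (hru.unit⁻¹ : Γ(Spec (CommRingCat.of A), ⊤)ˣ) • s) = _
  rw [pull_smul]
  rw [rs_self, ro_self] at he
  let W : (f.fiber y).Opens := f.fiberι y ⁻¹ᵁ (f ⁻¹ᵁ ⊤)
  replace he : pull (f.fiberι y) L (f ⁻¹ᵁ ⊤) s =
      (f.fiberι y).app (f ⁻¹ᵁ ⊤) (f.app ⊤ r) • (show Γ(M, W) from σ) := he
  refine (congrArg ((f.fiberι y).app (f ⁻¹ᵁ ⊤) (f.app ⊤ (hru.unit⁻¹ : Γ(Spec (CommRingCat.of A), ⊤)ˣ)) • ·) he).trans ?_
  rw [← mul_smul, ← map_mul, ← map_mul, IsUnit.val_inv_mul, map_one, map_one, one_smul]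

/-- Sections of an invertible module lift from the closed fibre if this has no first cohomology. -/
theorem exists_lift_section (L : X.Modules) (hL : PicF.IsInvertible L)
    (h1 : Subsingleton (Coh.HH (pullback f (Spec.map (CommRingCat.ofHom (IsLocalRing.residue A))))
      ((Scheme.Modules.pullback (pullback.fst f (Spec.map (CommRingCat.ofHom (IsLocalRing.residue A))))).obj L) 1))
    (t : Γ((Scheme.Modules.pullback (pullback.fst f (Spec.map (CommRingCat.ofHom (IsLocalRing.residue A))))).obj L, ⊤)) :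
    ∃ s : Γ(L, ⊤), ProjUP.pullSec (pullback.fst f (Spec.map (CommRingCat.ofHom (IsLocalRing.residue A)))) L s = t := by
  obtain ⟨y, φ, hp, hiso, hφ⟩ := Groth.L16.Rees.ClosedFibre.exists_iso_fiber A f
  haveI := hiso
  exact surjective_pullSec_of_iso φ (f.fiberι y) _ hφ L
    (surjective_pullSec_fiber A f y hp L hL (subsingleton_HH_transport φ (f.fiberι y) _ hφ L 1 h1)) t

end Groth.L07.ProjRecog
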