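import Groth.Agent.L07.ProjRecog.ClosedIso
import Groth.Agent.L07.ProjRecog.Sections
import Groth.Agent.L16.ProjSpace.PosFrames
import Groth.Agent.S11763
import Groth.Agent.S3572
import Groth.Agent.S3573

/-!
Recognition of projective space over a complete local ring by its closed fibre.
-/

set_option autoImplicit false
set_option linter.style.haveILetI false
set_option backward.isDefEq.respectTransparency false

universe u

open CategoryTheory CategoryTheory.Limits AlgebraicGeometry TopologicalSpace Opposite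

noncomputable section

namespace Groth.L07.ProjRecog

open Groth.L18.Frame (IsFrame rs ro pull rs_self)
open Groth.L18.PUP (O1 T rT)

/-- Sections whose pullbacks generate are frames near the image. -/
theorem exists_frame_image {Z X : Scheme.{u}} (i : Z ⟶ X) {L : X.Modules} (hL : PicF.IsInvertible L) {n : ℕ}
    (s : Fin n → Γ(L, ⊤))
    (ht : ∀ z : Z, ∃ (W : Z.Opens) (l : Fin n), z ∈ W ∧ IsFrame ((Scheme.Modules.pullback i).obj L) W
      (rs _ le_top (ProjUP.pullSec i L (s l)))) (z : Z) :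
    ∃ (W : X.Opens) (m : Fin n), i z ∈ W ∧ IsFrame L W (rs L le_top (s m)) := by
  obtain ⟨W, hW, m, hz, he⟩ := Groth.L12.CurveFam.exists_frame_of_combination i hL (A := ⊤) (le_refl _) s
    (fun l m => if l = m then 1 else 0) (fun z => by
      obtain ⟨W, l, hz, he⟩ := ht z
      refine ⟨W, l, hz, ?_⟩
      rw [Finset.sum_eq_single l (fun m _ hm => by rw [if_neg (Ne.symm hm), zero_smul])
        (fun h => absurd (Finset.mem_univ l) h), if_pos rfl, one_smul, rs_self]
      exact he) z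
  exact ⟨W, m, hz, he⟩

variable (A : Type u) [CommRing A] [IsLocalRing A] [IsNoetherianRing A] {X : Scheme.{u}}
  (f : X ⟶ Spec (CommRingCat.of A)) [IsProper f]

omit [IsNoetherianRing A] in
/-- Sections generating on the closed fibre generate. -/
theorem generatedBy_of_closedFibre {L : X.Modules} (hL : PicF.IsInvertible L) {n : ℕ} (s : Fin n → Γ(L, ⊤))
    (ht : ∀ z, ∃ (W : (pullback f (Spec.map (CommRingCat.ofHom (IsLocalRing.residue A)))).Opens) (l : Fin n), z ∈ W ∧
      IsFrame ((Scheme.Modules.pullback (pullback.fst f _)).obj L) W (rs _ le_top (ProjUP.pullSec (pullback.fst f _) L (s l)))) :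
    ProjUP.GeneratedBy L s := by
  obtain ⟨y, φ, hp, hiso, hφ⟩ := Groth.L16.Rees.ClosedFibre.exists_iso_fiber A f
  haveI := hiso
  let G : X.Opens := ⨆ p : {p : X.Opens × Fin n // IsFrame L p.1 (rs L le_top (s p.2))}, p.1.1
  refine Groth.L18.SpecLine.generatedBy_of_frames (ι := Fin n) s fun x => ?_
  suffices hx : x ∈ G by
    obtain ⟨⟨⟨W, m⟩, he⟩, hxW⟩ := Opens.mem_iSup.1 hx
    exact ⟨W, m, hxW, he⟩
  by_contra hn
  obtain ⟨x', hx', hfx⟩ := (hp (f x)).mem_closed (f.isClosedMap _ G.2.isClosed_compl) ⟨x, hn, rfl⟩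
  obtain ⟨w, hw⟩ : x' ∈ Set.range (f.fiberι y) := by rw [Scheme.Hom.range_fiberι]; exact hfx
  obtain ⟨z, rfl⟩ := (asIso φ).hom.homeomorph.surjective w
  have hz : pullback.fst f (Spec.map (CommRingCat.ofHom (IsLocalRing.residue A))) z = x' := by
    rw [← hφ, Scheme.Hom.comp_apply]; exact hw
  obtain ⟨W, m, hzW, he⟩ := exists_frame_image _ hL s ht z
  exact hx' (Opens.mem_iSup.2 ⟨⟨(W, m), he⟩, hz ▸ hzW⟩)

/-- Projective space is recognised by the closed fibre. -/
theorem exists_iso [IsAdicComplete (IsLocalRing.maximalIdeal A) A] [Flat f] (r : ℕ)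
    (e₀ : pullback f (Spec.map (CommRingCat.ofHom (IsLocalRing.residue A))) ≅
      CohB1.ProjSpace r (IsLocalRing.ResidueField A))
    (he₀ : e₀.hom ≫ CohB1.ProjSpace.toSpec r (IsLocalRing.ResidueField A) = pullback.snd f _) :
    ∃ e : X ≅ CohB1.ProjSpace r A, e.hom ≫ CohB1.ProjSpace.toSpec r A = f := by
  let c := Spec.map (CommRingCat.ofHom (IsLocalRing.residue A))
  let X₀ := pullback f c
  let i₀ : X₀ ⟶ X := pullback.fst f c
  let k := IsLocalRing.ResidueField A
  let m := Groth.L16.ProjSpace.map r (IsLocalRing.residue A)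
  have hm : IsPullback m (CohB1.ProjSpace.toSpec r k) (CohB1.ProjSpace.toSpec r A) c :=
    Groth.L16.ProjSpace.isPullback_map r _
  let u : X₀ ⟶ CohB1.ProjSpace r A := e₀.hom ≫ m
  let L₀ := (Scheme.Modules.pullback u).obj (O1 r A)
  have h2 : Subsingleton (Coh.HH X₀ (Coh.structureModule _) 2) := by
    refine Groth.L16.Rees.ClosedFibre.subsingleton_HH_of_iso e₀.inv 2 ?_
    obtain ⟨z⟩ := Groth.L16.ProjTwist.nonempty_twist_zero_iso (CohB1.polyGrading r k)
    have h := Groth.L16.ProjSpace.subsingleton_HH_twist r k 0 2 (by omega) (by omega)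
    exact @Equiv.subsingleton _ _ (Groth.L17.BC.HHequiv z 2).symm.toEquiv h
  obtain ⟨L, hL, ⟨a⟩⟩ := Groth.Agent.S11763.result A f h2 L₀ (Groth.L18.PUP.isInvertible_pullback u)
  have h1 : Subsingleton (Coh.HH X₀ ((Scheme.Modules.pullback i₀).obj L) 1) := by
    obtain ⟨w⟩ := Groth.L16.ProjSpace.nonempty_pullback_twist_iso r (IsLocalRing.residue A) 1
    let θ : L₀ ≅ (Scheme.Modules.pullback e₀.hom).obj (Twist.twistProjSpace r k ((1 : ℕ) : ℤ)) :=
      ((Scheme.Modules.pullbackComp e₀.hom m).app (O1 r A)).symm ≪≫ (Scheme.Modules.pullback e₀.hom).mapIso w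
    obtain ⟨q⟩ := Groth.L03.BlowAcyc.nonempty_HH_pullback_iso e₀.hom (Twist.twistProjSpace r k ((1 : ℕ) : ℤ)) 1
    haveI := Groth.L16.ProjSpace.subsingleton_HH_twist r k ((1 : ℕ) : ℤ) 1 (by omega) (by omega)
    exact (((Groth.L17.BC.HHequiv (a ≪≫ θ) 1).toAddEquiv).trans q).toEquiv.subsingleton
  choose s hs using fun l : Fin (r + 1) => exists_lift_section A f L hL h1 (a.inv.app ⊤ (rT u l))
  have ha : ∀ l, a.hom.app ⊤ (ProjUP.pullSec i₀ L (s l)) = rT u l := fun l => by
    rw [show ProjUP.pullSec i₀ L (s l) = a.inv.app ⊤ (rT u l) from hs l]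
    exact congr($(congrArg (fun k => Scheme.Modules.Hom.app k ⊤) a.inv_hom_id) (rT u l))
  have hgen : ProjUP.GeneratedBy L s := generatedBy_of_closedFibre A f hL s fun z => by
    obtain ⟨W, l, hz, he⟩ := Groth.L18.PUP.rT_cover u z
    refine ⟨W, l, hz, ?_⟩
    have h := Groth.L12.CurveFam.isFrame_map a.symm he
    rw [Iso.symm_hom, Groth.L17.BC.PullSec.app_rs, ← hs l] at h
    exact h
  obtain ⟨g, hg, τ, hτ⟩ := Groth.Agent.S3572.result r f L hL s hgen
  let σ : (Scheme.Modules.pullback (i₀ ≫ g)).obj (O1 r A) ≅ L₀ :=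
    ((Scheme.Modules.pullbackComp i₀ g).app (O1 r A)).symm ≪≫ (Scheme.Modules.pullback i₀).mapIso τ ≪≫ a
  have hσ : ∀ l, σ.hom.app ⊤ (ProjUP.pullSec (i₀ ≫ g) (O1 r A) (ProjUP.coord r A l)) = rT u l := fun l => by
    show a.hom.app ⊤ (((Scheme.Modules.pullback i₀).map τ.hom).app ⊤
      (((Scheme.Modules.pullbackComp i₀ g).inv.app (O1 r A)).app ⊤
        (ProjUP.pullSec (i₀ ≫ g) (O1 r A) (ProjUP.coord r A l)))) = _
    have h : ((Scheme.Modules.pullbackComp i₀ g).inv.app (O1 r A)).app ⊤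
        (ProjUP.pullSec (i₀ ≫ g) (O1 r A) (ProjUP.coord r A l)) =
          ProjUP.pullSec i₀ _ (ProjUP.pullSec g (O1 r A) (ProjUP.coord r A l)) := by
      rw [← Groth.L21.RR.pullSec_comp i₀ g (O1 r A) (ProjUP.coord r A l)]
      exact congr($(congrArg (fun k => Scheme.Modules.Hom.app k ⊤)
        ((Scheme.Modules.pullbackComp i₀ g).hom_inv_id_app (O1 r A))) _)
    refine (congrArg (fun w => a.hom.app ⊤ (((Scheme.Modules.pullback i₀).map τ.hom).app ⊤ w)) h).trans ?_
    refine (congrArg (fun w => a.hom.app ⊤ w) (Groth.L21.RR.pullSec_map i₀ τ.hom _)).trans ?_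
    exact (congrArg (fun w => a.hom.app ⊤ (ProjUP.pullSec i₀ L w)) (hτ l)).trans (ha l)
  have key : i₀ ≫ g = u := Groth.Agent.S3573.result r (i₀ ≫ g) u (by
    calc (i₀ ≫ g) ≫ CohB1.ProjSpace.toSpec r A = i₀ ≫ f := by rw [Category.assoc, hg]
      _ = pullback.snd f c ≫ c := pullback.condition
      _ = (e₀.hom ≫ CohB1.ProjSpace.toSpec r k) ≫ c := congrArg (· ≫ c) he₀.symm
      _ = u ≫ CohB1.ProjSpace.toSpec r A := by simp only [u, Category.assoc]; exact congrArg (e₀.hom ≫ ·) hm.w.symm) σ hσ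
  haveI : IsProper (CohB1.ProjSpace.toSpec r A) := Groth.L16.ProjSpace.isProper_toSpec r A
  have hsq : IsPullback i₀ e₀.hom g m := by
    refine IsPullback.of_bot ?_ key hm
    rw [hg, he₀]
    exact IsPullback.of_hasPullback f c
  haveI := isIso_of_closedFibre g (CohB1.ProjSpace.toSpec r A) f hg i₀ e₀.hom m (CohB1.ProjSpace.toSpec r k) hm hsq
  exact ⟨asIso g, hg⟩

end Groth.L07.ProjRecog
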